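import Cfsg.Agent.SelfCentNonCyclic.Local
import Cfsg.Agent.S0508
import Cfsg.Agent.S0205
import Cfsg.Agent.S3370
import Cfsg.Agent.SEmbed.KleinFour
import Cfsg.Agent.DicksonPSL2.Basic
import Cfsg.Agent.Forms.KleinPSL
import Cfsg.Agent.PLocal.Cores

/-!
# Simple groups whose non-cyclic subgroups contain their centralisers are `PSL₂(q)`

The Sylow 2-subgroup is dihedral or semidihedral and the centraliser of a central involution is
that Sylow subgroup. The semidihedral case is excluded by fusion, and the dihedral one is the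
characterisation of `PSL₂(q)` with trivial core.
-/

set_option autoImplicit false
set_option linter.unusedSectionVars false

namespace CfsgLib.SelfCentNonCyclic

open Subgroup CfsgLib.DicksonPSL2
open CfsgLib.SL2Trace
open scoped MatrixGroups

variable {G : Type*} [Group G] [Finite G]

/-- A semidihedral Sylow 2-subgroup containing the centraliser of its central involution gives a
proper normal subgroup. -/
theorem not_quasiDihedral [IsSimpleGroup G] (hna : ¬ IsMulCommutative G) (h : SelfCent G)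
    (S : Sylow 2 G) (hS : Cfsg.IsQuasiDihedral ↥(S : Subgroup G)) {T : Subgroup G}
    (hT : IsKleinFour T) (hTS : T ≤ (S : Subgroup G)) : False := by
  haveI : Fact (Nat.Prime 2) := ⟨Nat.prime_two⟩
  obtain ⟨n, x, y, d⟩ := CfsgLib.TwoGroups.exists_sdPair hS
  set z : G := (↑(x ^ CfsgLib.TwoGroups.hh n) : G) with hz
  have hzT : z ∈ T := (d.four_sylow S hT hTS).1
  have hz1 : z ≠ 1 := fun e => d.z_ne_one (Subtype.ext e)
  have hCS : centralizer ({z} : Set G) = (S : Subgroup G) :=
    (S.is_maximal' (h.isPGroup_centralizer hT hzT hz1) fun s hs =>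
      mem_centralizer_singleton_iff.2
        (congrArg Subtype.val (mem_center_iff.1 d.z_mem_center ⟨s, hs⟩)))
  have hidx2 : ∀ K : Subgroup G, K.Normal → K.index = 2 → False := by
    intro K hK hKi
    rcases hK.eq_bot_or_eq_top with e | e
    · have hc : Nat.card G = 2 := by rwa [e, index_bot] at hKi
      haveI := isCyclic_of_prime_card hc
      exact hna inferInstance
    · rw [e, index_top] at hKi; omega
  have hw : ∀ g : G, g * (↑(x ^ CfsgLib.TwoGroups.qq n) : G) * g⁻¹ ∈ (S : Subgroup G) →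
      g * (↑(x ^ CfsgLib.TwoGroups.qq n) : G) * g⁻¹ = (↑(x ^ CfsgLib.TwoGroups.qq n) : G) ∨
        g * (↑(x ^ CfsgLib.TwoGroups.qq n) : G) * g⁻¹ =
          (↑(x ^ CfsgLib.TwoGroups.qq n) : G)⁻¹ := by
    intro g hg
    set w : G := (↑(x ^ CfsgLib.TwoGroups.qq n) : G) with hw
    have hzw : z = w * w := by
      rw [hz, hw, ← Subgroup.coe_mul, ← zpow_add, d.hh_eq, two_mul]
    have hwo : orderOf (g * w * g⁻¹) = 4 := by
      rw [show g * w * g⁻¹ = MulAut.conj g w from rfl, MulEquiv.orderOf_eq, hw, orderOf_coe]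
      exact d.orderOf_eq_four_iff.2 (Or.inl rfl)
    have hsq : g * w * g⁻¹ * (g * w * g⁻¹) = z := by
      rcases d.sylow_four S hg hwo with e | e | ⟨i, hi, e⟩ <;> rw [e]
      · exact hzw.symm
      · rw [← mul_inv_rev, ← hzw]
        exact inv_eq_of_mul_eq_one_right (congrArg Subtype.val d.z_sq)
      · rw [← Subgroup.coe_mul, d.sq_zpow_y, hz]
        congr 1
        obtain ⟨c, hc⟩ : ∃ c : ℤ, i = 2 * c + 1 := ⟨i / 2, by omega⟩
        have h1 : ¬ x ^ (CfsgLib.TwoGroups.hh n * i) = 1 := by
          intro e1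
          rw [hc, mul_add, mul_one, zpow_add, show CfsgLib.TwoGroups.hh n * (2 * c) =
            (CfsgLib.TwoGroups.hh n + CfsgLib.TwoGroups.hh n) * c by ring, zpow_mul, zpow_add,
            d.z_sq, one_zpow, one_mul] at e1
          exact d.z_ne_one e1
        rcases d.zpow_of_hh_dvd (dvd_mul_right (CfsgLib.TwoGroups.hh n) i) with e1 | e1
        · exact absurd e1 h1
        · exact e1
    have hgC : g ∈ (S : Subgroup G) := by
      rw [← hCS, mem_centralizer_singleton_iff]
      rw [conj_mul, ← hzw] at hsq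
      exact mul_inv_eq_iff_eq_mul.1 hsq
    rcases d.conj_qq_cases ⟨g, hgC⟩ with e | e
    · exact Or.inl (congrArg Subtype.val e)
    · exact Or.inr (congrArg Subtype.val e)
  have hlt : T < (S : Subgroup G) := lt_of_le_of_ne hTS fun e => by
    have h4 := hT.card_four
    rw [e, d.card] at h4
    have : (2 : ℕ) ^ 4 ≤ 2 ^ (n + 1) := Nat.pow_le_pow_right two_pos (by have := d.le; omega)
    omega
  obtain ⟨u, hu, huT⟩ := SetLike.exists_of_lt (CfsgLib.Transfer.lt_inf_normalizer S.isPGroup' hlt)
  obtain ⟨k, hk⟩ := S.isPGroup' ⟨u, hu.1⟩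
  rcases CfsgLib.TwoGroups.relIndex_centralizer_kleinFour hT hu.2 (fun hc => huT (h.four hT hc))
    (k := k) (by simpa [Subtype.ext_iff] using hk) with h2 | h6
  · obtain ⟨P, N, hN, hNc⟩ := d.hasNormalPComplement S
      (d.conj_z_eq S hT hTS (d.normalizer_four_le S hT hTS h2)) hw
    rcases hN.eq_bot_or_eq_top with e | e
    · subst e
      have hP : (P : Subgroup G) = ⊤ := isComplement'_bot_left.1 hNc
      have hp : IsPGroup 2 G := by
        have := P.isPGroup'
        rw [hP] at this
        exact this.of_equiv topEquiv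
      haveI := hp.isNilpotent
      exact hna ⟨⟨IsSimpleGroup.comm_iff_isSolvable.2 inferInstance⟩⟩
    · subst e
      have hP : (P : Subgroup G) = ⊥ := isComplement'_top_left.1 hNc
      have hSb : Nat.card (S : Subgroup G) = Nat.card (P : Subgroup G) :=
        S.card_eq_multiplicity.trans P.card_eq_multiplicity.symm
      rw [hP, card_bot, d.card] at hSb
      exact absurd hSb (Nat.one_lt_two_pow (by omega)).ne'
  · obtain ⟨K, hK, hKi, -⟩ := d.exists_index_two_dihedral S hT hTS h6 hw
    exact hidx2 K hK hKi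

/-- The group is `PSL₂(q)` for an odd `q`, with a 2-group as centraliser of an involution. -/
theorem exists_equiv_psl [IsSimpleGroup G] (hna : ¬ IsMulCommutative G) (h : SelfCent G) :
    ∃ (F : Type) (_ : Field F) (_ : Fintype F), Odd (Fintype.card F) ∧
      Nonempty (G ≃* Matrix.ProjectiveSpecialLinearGroup (Fin 2) F) ∧
      ∃ t : G, orderOf t = 2 ∧ IsPGroup 2 ↥(centralizer ({t} : Set G)) := by
  haveI : Fact (Nat.Prime 2) := ⟨Nat.prime_two⟩
  have hnc : ¬ IsCyclic G := fun hc => hna inferInstance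
  obtain ⟨V, hV⟩ := SEmbed.exists_kleinFour_of_odd_order_solvable
    (fun ho => Cfsg.Agent.S0205.result ho) hnc
  haveI := hV
  obtain ⟨S, hVS⟩ := (IsPGroup.of_card (p := 2) (n := 2) hV.card_four).exists_le_sylow
  set Q := V.subgroupOf (S : Subgroup G) with hQ
  have hQ4 : Nat.card Q = 4 := by
    rw [Nat.card_congr (subgroupOfEquivOfLe hVS).toEquiv]; exact hV.card_four
  have htype : (∃ n : ℕ, 2 ≤ n ∧ Nonempty (↥(S : Subgroup G) ≃* DihedralGroup n)) ∨
      Cfsg.IsQuasiDihedral ↥(S : Subgroup G) := by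
    by_cases hne : Q = ⊤
    · have e : (S : Subgroup G) ≤ V := subgroupOf_eq_top.1 hne
      have e' : V = (S : Subgroup G) := le_antisymm hVS e
      refine Or.inl ⟨2, le_rfl, ?_⟩
      rw [← e']
      exact IsKleinFour.nonempty_mulEquiv
    rcases FusionMetacyclic.of_klein_self_centralizing S.isPGroup' Q hQ4
      (fun q hq => by
        refine Subtype.ext ?_
        rw [SubgroupClass.coe_pow, sq, OneMemClass.coe_one]
        exact Classification.sq_eq_one_of_isKleinFour hV (mem_subgroupOf.1 hq))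
      (fun g hg => mem_subgroupOf.2 (h.four hV (mem_centralizer_iff.2 fun v hv =>
        (congrArg Subtype.val (hg ⟨v, hVS hv⟩ hv)).symm))) hne with ⟨n, ⟨e⟩⟩ | hq
    · refine Or.inl ⟨n, ?_, ⟨e⟩⟩
      have h4 : 4 ≤ Nat.card ↥(S : Subgroup G) := hQ4 ▸ card_le_card_group Q
      rw [Nat.card_congr e.toEquiv, DihedralGroup.nat_card] at h4
      omega
    · exact Or.inr hq
  rcases htype with ⟨n, hn, hS⟩ | hq
  swap
  · exact (not_quasiDihedral hna h S hq hV hVS).elim
  -- a central involution of `S` lies in `V`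
  haveI : Nontrivial ↥(S : Subgroup G) := Finite.one_lt_card_iff_nontrivial.1 (by
    have := card_le_card_group Q; omega)
  obtain ⟨t, htS, ht, htc⟩ := CfsgLib.Inv53.exists_orderOf_eq_central S.isPGroup'
    (fun e => by
      have := card_le_of_le hVS
      rw [e, card_bot, hV.card_four] at this
      omega)
  have htV : t ∈ V := h.four hV (mem_centralizer_iff.2 fun v hv => htc v (hVS hv))
  have ht1 : t ≠ 1 := fun e => by simp [e] at ht
  have hC := h.isPGroup_centralizer hV htV ht1
  have hO : (Cfsg.oddCore (centralizer ({t} : Set G))).map (centralizer ({t} : Set G)).subtype = ⊥ := by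
    rw [map_eq_bot_iff_of_injective _ (subtype_injective _), ← card_eq_one]
    obtain ⟨m, hm⟩ := IsPGroup.iff_card.1 (hC.to_subgroup (Cfsg.oddCore (centralizer ({t} : Set G))))
    have hodd := CfsgLib.PLocal.coprime_card_pPrimeCore 2 ↥(centralizer ({t} : Set G))
    rcases Nat.eq_zero_or_pos m with rfl | hm0
    · simpa using hm
    · rw [show Cfsg.oddCore ↥(centralizer ({t} : Set G)) = _ from rfl] at hm
      rw [hm] at hodd
      exact absurd (Nat.Coprime.eq_one_of_dvd hodd.symm (dvd_pow_self 2 hm0.ne')) (by norm_num)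
  obtain ⟨F, i1, i2, hodd, he⟩ := Cfsg.Agent.S0508.result S n hn hS t ht htS
    (fun s hs => htc s hs) ⊥ hO.symm (fun e => absurd rfl e)
    (fun s _ hs => absurd (mem_centralizer_iff.2 fun v hv => by
      rw [mem_bot.1 hv, one_mul, mul_one]) hs)
    (fun Y hY hY0 => absurd (le_bot_iff.1 hY) hY0)
  exact ⟨F, i1, i2, hodd, he, t, ht, hC⟩

/-- The field has 9 elements, or a prime number next to a power of two. -/
theorem card_field {F : Type*} [Field F] [Fintype F] (hodd : Odd (Fintype.card F))
    (x : Matrix.ProjectiveSpecialLinearGroup (Fin 2) F) (hx : orderOf x = 2)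
    (hC : IsPGroup 2 ↥(centralizer ({x} : Set (Matrix.ProjectiveSpecialLinearGroup (Fin 2) F)))) :
    Fintype.card F = 9 ∨ ((Fintype.card F).Prime ∧
      ∃ k : ℕ, Fintype.card F = 2 ^ k + 1 ∨ Fintype.card F = 2 ^ k - 1) := by
  haveI : Fact (Nat.Prime 2) := ⟨Nat.prime_two⟩
  obtain ⟨p, hp⟩ := CharP.exists F
  obtain ⟨f, hpp, hf⟩ := FiniteField.card F p
  haveI : Fact p.Prime := ⟨hpp⟩
  have hpo : Odd p := by
    rw [hf] at hodd
    exact Odd.of_dvd_nat hodd (dvd_pow_self p f.ne_zero)
  have hp3 : 3 ≤ p := by have := hpp.two_le; rcases hpo with ⟨a, rfl⟩; omega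
  have hxT : IsTor x := (isTor_iff_pow p x).2 fun e => by
    have := orderOf_dvd_of_pow_eq_one e
    rw [hx, Nat.prime_dvd_prime_iff_eq Nat.prime_two hpp] at this
    omega
  have hTC : torus x ≤ centralizer {x} := fun y hy =>
    mem_centralizer_singleton_iff.2 (torus_comm hxT hy (self_mem_torus x))
  obtain ⟨m, hm⟩ := IsPGroup.iff_card.1 (hC.to_le hTC)
  have hgcd : Nat.gcd 2 (Fintype.card F - 1) = 2 := Nat.gcd_eq_left (by
    obtain ⟨a, ha⟩ := hodd; omega)
  have hq := card_torus hxT
  rw [hgcd, hm, ← pow_succ'] at hq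
  have hf0 : 0 < (f : ℕ) := f.pos
  have h2 : 2 ≤ m + 1 := by
    by_contra hlt
    rw [show m + 1 = 1 by omega, pow_one] at hq
    have h1 : x = 1 := by
      have := orderOf_dvd_natCard _ (self_mem_torus x)
      rw [hm, show m = 0 by omega, pow_zero, Nat.dvd_one] at this
      rw [← orderOf_eq_one_iff]
      exact this
    rw [h1, orderOf_one] at hx
    omega
  rcases hq with hq | hq
  · have e : p ^ (f : ℕ) = 2 ^ (m + 1) + 1 := by
      rw [← hf]; have := Fintype.one_lt_card (α := F); omega
    rcases Cfsg.Agent.S3370.odd_power_succ_two_pow hpo hp3 hf0 e with h1 | ⟨h1, h1'⟩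
    · exact Or.inr ⟨by rw [hf, h1, pow_one]; exact hpp, m + 1, Or.inl (hf.trans e)⟩
    · exact Or.inl (by rw [hf, h1, h1']; norm_num)
  · have e : p ^ (f : ℕ) + 1 = 2 ^ (m + 1) := by rw [← hf]; omega
    have h1 := Cfsg.Agent.S3370.mersenne_not_power h2 hpo e
    exact Or.inr ⟨by rw [hf, h1, pow_one]; exact hpp, m + 1, Or.inr (by rw [hf]; omega)⟩

end CfsgLib.SelfCentNonCyclic
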