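import Cfsg.Agent.SelfCentNonCyclic.Local
import Cfsg.Agent.DicksonPSL2.Basic
import Cfsg.Agent.Forms.KleinClasses
import Cfsg.Agent.Inv53.SL2Involutions

/-!
# The groups `PSL₂(q)`, `q = 4`, `9` or a prime next to a power of two

In these groups the centraliser of a semisimple element is cyclic or a 2-group, and the centraliser
of a unipotent element has order at most `p²`, so non-cyclic subgroups contain their centralisers.
-/

set_option autoImplicit false
set_option linter.unusedSectionVars false

namespace CfsgLib.SelfCentNonCyclic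

open Subgroup CfsgLib.DicksonPSL2
open CfsgLib.SL2Trace
open scoped MatrixGroups

/-- The property passes along isomorphisms. -/
theorem SelfCent.of_equiv {G H : Type*} [Group G] [Group H] (h : SelfCent G) (e : G ≃* H) :
    SelfCent H := by
  intro K hK x hx
  have hKc : ¬ IsCyclic ↥(K.comap e.toMonoidHom) := fun hc => hK <| by
    haveI := hc
    exact isCyclic_of_surjective (e.toMonoidHom.subgroupComap K)
      (MonoidHom.subgroupComap_surjective_of_surjective _ K e.surjective)
  have := h _ hKc (show e.symm x ∈ centralizer (K.comap e.toMonoidHom : Set G) from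
    mem_centralizer_iff.2 fun g hg => e.injective (by
      rw [map_mul, map_mul, e.apply_symm_apply]
      exact mem_centralizer_iff.1 hx _ hg))
  simpa using this

variable {F : Type*} [Field F] [Fintype F]

/-- The possible field orders. -/
def GoodOrder (q : ℕ) : Prop :=
  q = 4 ∨ q = 9 ∨ (q.Prime ∧ ∃ k : ℕ, q = 2 ^ k + 1 ∨ q = 2 ^ k - 1)

/-- An even torus order is a power of two. -/
theorem two_pow_of_good {q T : ℕ} (hq : GoodOrder q) (hodd : Odd q) (hT : 2 ∣ T)
    (he : 2 * T = q - 1 ∨ 2 * T = q + 1) : ∃ m, T = 2 ^ m := by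
  obtain ⟨c, rfl⟩ := hT
  obtain ⟨a, ha⟩ := hodd
  rcases hq with h | h | ⟨hp, k, h | h⟩
  · omega
  · exact ⟨2, by norm_num; omega⟩
  · rcases k with _ | _ | k
    · simp at h; omega
    · exact ⟨1, by simp at h; omega⟩
    · refine ⟨k + 1, ?_⟩
      rw [pow_succ, pow_succ] at h
      rw [pow_succ]
      omega
  · rcases k with _ | _ | k
    · simp at h; omega
    · simp at h; have := hp.two_le; omega
    · refine ⟨k + 1, ?_⟩
      rw [pow_succ, pow_succ] at h
      rw [pow_succ]
      omega

/-- In these groups every non-cyclic subgroup contains its centraliser. -/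
theorem selfCent_psl (hq : GoodOrder (Fintype.card F)) :
    SelfCent (Matrix.ProjectiveSpecialLinearGroup (Fin 2) F) := by
  intro H hH c hc
  by_cases hc1 : c = 1
  · exact hc1 ▸ one_mem H
  have hHC : H ≤ centralizer ({c} : Set (Matrix.ProjectiveSpecialLinearGroup (Fin 2) F)) :=
    fun y hy => mem_centralizer_singleton_iff.2 (mem_centralizer_iff.1 hc y hy)
  obtain ⟨p, hp⟩ := CharP.exists F
  obtain ⟨f, hpp, hf⟩ := FiniteField.card F p
  haveI : Fact p.Prime := ⟨hpp⟩
  haveI : Fact (Nat.Prime 2) := ⟨Nat.prime_two⟩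
  by_cases hct : IsTor c
  · have hdich : ∀ y ∈ centralizer ({c} : Set (Matrix.ProjectiveSpecialLinearGroup (Fin 2) F)),
        y ∈ torus c ∨ (y * y = 1 ∧ c * c = 1) := by
      intro y hy
      have hyc : y * c * y⁻¹ = c := by
        rw [mem_centralizer_singleton_iff.1 hy, mul_inv_cancel_right]
      rcases mem_or_inverts hct (n := y) (by rw [hyc]; exact self_mem_torus c) with h | ⟨h, hinv⟩
      · exact Or.inl h
      · refine Or.inr ⟨h, eq_inv_iff_mul_eq_one.1 ?_⟩
        rw [← hinv c (self_mem_torus c), hyc]
    by_cases hc2 : c * c = 1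
    swap
    · refine absurd ?_ hH
      haveI := isCyclic_torus hct
      exact Subgroup.isCyclic_of_le (H' := torus c) fun y hy =>
        (hdich y (hHC hy)).resolve_right fun e => hc2 e.2
    have hp2 : p ≠ 2 := by
      rintro rfl
      exact (isTor_iff_pow 2 c).1 hct (by rw [sq, hc2])
    have hodd : Odd (Fintype.card F) := hf ▸ (hpp.odd_of_ne_two hp2).pow
    have h2F : (2 : F) ≠ 0 := by
      intro h
      rw [show (2 : F) = ((2 : ℕ) : F) by norm_num, CharP.cast_eq_zero_iff F p] at h
      exact hp2 ((Nat.prime_dvd_prime_iff_eq hpp Nat.prime_two).1 h)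
    have hco : orderOf c = 2 := orderOf_eq_prime (by rw [sq]; exact hc2) hc1
    have hgcd : Nat.gcd 2 (Fintype.card F - 1) = 2 := Nat.gcd_eq_left (by
      obtain ⟨a, ha⟩ := hodd; omega)
    have hT := card_torus hct
    rw [hgcd] at hT
    obtain ⟨m, hm⟩ := two_pow_of_good hq hodd
      (hco.symm.dvd.trans (Subgroup.orderOf_dvd_natCard _ (self_mem_torus c))) hT
    have hH2 : IsPGroup 2 H := by
      intro y
      rcases hdich y (hHC y.2) with h | h
      · refine ⟨m, Subtype.ext ?_⟩
        rw [SubgroupClass.coe_pow, OneMemClass.coe_one, ← hm]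
        exact orderOf_dvd_iff_pow_eq_one.1 (Subgroup.orderOf_dvd_natCard _ h)
      · refine ⟨1, Subtype.ext ?_⟩
        rw [SubgroupClass.coe_pow, OneMemClass.coe_one, pow_one, sq]
        exact h.1
    have hHne : H ≠ ⊥ := fun e => hH (by rw [e]; infer_instance)
    obtain ⟨h, hhH, hho, hhc⟩ := CfsgLib.Inv53.exists_orderOf_eq_central hH2 hHne
    by_cases hhc' : h = c
    · exact hhc' ▸ hhH
    have hh2 : h * h = 1 := by
      have := pow_orderOf_eq_one h
      rwa [hho, sq] at this
    have hh1 : h ≠ 1 := fun e => by simp [e] at hho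
    have hcomm : c * h = h * c := (mem_centralizer_iff.1 hc h hhH).symm
    set V := Classification.fourSpan c h hc2 hh2 hcomm with hV
    have hVk : IsKleinFour V :=
      Classification.isKleinFour_fourSpan hc2 hh2 hcomm hc1 hh1 (Ne.symm hhc')
    have hHV : H ≤ V := by
      rw [← Forms.KleinPSL.centralizer_eq h2F V hVk]
      intro y hy
      rw [mem_centralizer_iff]
      intro v hv
      have e1 : Commute c y := (mem_centralizer_singleton_iff.1 (hHC hy)).symm
      have e2 : Commute h y := (hhc y hy).symm
      rcases Classification.mem_fourSpan.1 hv with rfl | rfl | rfl | rfl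
      · rw [one_mul, mul_one]
      · exact e1
      · exact e2
      · exact e1.mul_left e2
    have hcard : Nat.card H = 4 := by
      have hd := Subgroup.card_dvd_of_le hHV
      rw [hVk.card_four] at hd
      obtain ⟨i, hi, e⟩ := (Nat.dvd_prime_pow Nat.prime_two).1 (show Nat.card H ∣ 2 ^ 2 from hd)
      rcases i with _ | _ | i
      · haveI := (Nat.card_eq_one_iff_unique.1 e).1
        exact absurd isCyclic_of_subsingleton hH
      · exact absurd (isCyclic_of_prime_card (p := 2) e) hH
      · rw [e, show i = 0 by omega]; norm_num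
    rw [eq_of_le_of_card_ge hHV (by rw [hcard, hVk.card_four])]
    exact Classification.mem_fourSpan.2 (Or.inr (Or.inl rfl))
  · set C := centralizer ({c} : Set (Matrix.ProjectiveSpecialLinearGroup (Fin 2) F)) with hC
    have hcp : c ^ p = 1 := not_not.1 fun e => hct ((isTor_iff_pow p c).2 e)
    have hCp : ∀ y ∈ C, y ^ p = 1 := by
      intro y hy
      by_contra hyp
      have hy' : IsTor y := (isTor_iff_pow p y).2 hyp
      have hyc : c * y * c⁻¹ = y := by
        rw [← mem_centralizer_singleton_iff.1 hy, mul_inv_cancel_right]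
      rcases mem_or_inverts hy' (n := c) (by rw [hyc]; exact self_mem_torus y) with h | ⟨h, hinv⟩
      · exact hct (isTor_of_mem_torus hy' h hc1).1
      · have hy2 : y ^ 2 = 1 := by
          rw [sq]
          refine eq_inv_iff_mul_eq_one.1 ?_
          rw [← hinv y (self_mem_torus y), hyc]
        have h2 : orderOf c = 2 := orderOf_eq_prime (by rw [sq]; exact h) hc1
        have := orderOf_dvd_of_pow_eq_one hcp
        rw [h2, Nat.prime_dvd_prime_iff_eq Nat.prime_two hpp] at this
        exact hyp (this ▸ hy2)
    have hC' : IsPGroup p C := fun y => ⟨1, Subtype.ext (by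
      rw [SubgroupClass.coe_pow, OneMemClass.coe_one, pow_one]; exact hCp y y.2)⟩
    obtain ⟨j, hj⟩ := IsPGroup.iff_card.1 hC'
    have hle : Nat.card C ≤ Fintype.card F := by
      refine Nat.le_of_dvd Fintype.card_pos ?_
      have hd : Nat.card C ∣ Fintype.card F * (Fintype.card F ^ 2 - 1) := by
        rw [← Linear.card_PSL_two_mul]
        exact dvd_mul_of_dvd_right (card_subgroup_dvd_card C) _
      rw [hj] at hd ⊢
      refine Nat.Coprime.dvd_of_dvd_mul_right (Nat.Coprime.pow_left j ?_) hd
      rw [hpp.coprime_iff_not_dvd]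
      intro hd'
      have hpq : p ∣ Fintype.card F ^ 2 := hf ▸ dvd_pow (dvd_pow_self p f.ne_zero) two_ne_zero
      have h1 : 1 ≤ Fintype.card F ^ 2 := Nat.one_le_pow _ _ Fintype.card_pos
      have := Nat.dvd_sub hpq hd'
      rw [Nat.sub_sub_self h1, Nat.dvd_one] at this
      exact hpp.ne_one this
    have hq2 : Fintype.card F ≤ p ^ 2 := by
      have hpd : p ∣ Fintype.card F := hf ▸ dvd_pow_self p f.ne_zero
      rcases hq with e | e | ⟨e, -⟩
      · rw [e] at hpd ⊢
        rw [(Nat.prime_dvd_prime_iff_eq hpp Nat.prime_two).1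
          (hpp.dvd_of_dvd_pow (n := 2) (by norm_num; exact hpd))]
        norm_num
      · rw [e] at hpd ⊢
        rw [(Nat.prime_dvd_prime_iff_eq hpp Nat.prime_three).1
          (hpp.dvd_of_dvd_pow (n := 2) (by norm_num; exact hpd))]
        norm_num
      · rw [← (Nat.prime_dvd_prime_iff_eq hpp e).1 hpd]
        exact Nat.le_self_pow two_ne_zero p
    obtain ⟨i, hi⟩ := IsPGroup.iff_card.1 (hC'.to_le hHC)
    have h2i : p ^ 2 ≤ Nat.card H := by
      rcases i with _ | _ | i
      · haveI := (Nat.card_eq_one_iff_unique.1 hi).1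
        exact absurd isCyclic_of_subsingleton hH
      · exact absurd (isCyclic_of_prime_card (p := p) (by rw [hi, zero_add, pow_one])) hH
      · rw [hi]; exact Nat.pow_le_pow_right hpp.pos (by omega)
    rw [eq_of_le_of_card_ge hHC (le_trans hle (le_trans hq2 h2i))]
    exact mem_centralizer_singleton_iff.2 rfl

end CfsgLib.SelfCentNonCyclic
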