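import Cfsg.Agent.S0199
import Cfsg.Agent.FusionMetacyclic.Extension
import Cfsg.Agent.ZCGroup.TwoGroup
import Cfsg.Agent.TwoGroups.SDFusion
import Cfsg.Agent.Solvable.Fitting

/-!
# Groups whose non-cyclic subgroups contain their centralisers: the 2-local part

`isPGroup_centralizer`: the centraliser of an involution lying in a four-group is a 2-group.
An odd element of it inverted by another involution would give a dihedral subgroup centralised by
the involution, so by Baer–Suzuki the other involutions lie in the 2-core; an element of odd prime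
order then fixes one of them, as they form a set of 2-power cardinality in a group with a cyclic
half, and a four-group is self-centralising.
-/

set_option autoImplicit false
set_option linter.unusedSectionVars false

namespace CfsgLib.SelfCentNonCyclic

open Subgroup

variable {G : Type*} [Group G]

/-- Every non-cyclic subgroup contains its centraliser. -/
def SelfCent (G : Type*) [Group G] : Prop :=
  ∀ H : Subgroup G, ¬ IsCyclic ↥H → centralizer (H : Set G) ≤ H

theorem SelfCent.four (h : SelfCent G) {V : Subgroup G} (hV : IsKleinFour V) :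
    centralizer (V : Set G) ≤ V :=
  h V IsKleinFour.not_isCyclic

/-- A group generated by an involution and an element it inverts. -/
theorem closure_inverted {u b x : G} (hb : b * b = 1) (hinv : b * u * b⁻¹ = u⁻¹)
    (hx : x ∈ closure ({u, b} : Set G)) : ∃ i : ℤ, x = u ^ i ∨ x = u ^ i * b := by
  have hc : ∀ i : ℤ, b * u ^ i = u ^ (-i) * b := by
    intro i
    rw [← mul_inv_eq_iff_eq_mul, ← conj_zpow, hinv, inv_zpow, zpow_neg]
  induction hx using closure_induction with
  | mem y hy =>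
    rcases hy with rfl | rfl
    · exact ⟨1, Or.inl (zpow_one _).symm⟩
    · exact ⟨0, Or.inr (by rw [zpow_zero, one_mul])⟩
  | one => exact ⟨0, Or.inl (zpow_zero _).symm⟩
  | mul p q _ _ hp hq =>
    obtain ⟨i, rfl | rfl⟩ := hp <;> obtain ⟨j, rfl | rfl⟩ := hq
    · exact ⟨i + j, Or.inl (zpow_add u i j).symm⟩
    · exact ⟨i + j, Or.inr (by rw [← mul_assoc, zpow_add])⟩
    · exact ⟨i + -j, Or.inr (by rw [mul_assoc, hc, ← mul_assoc, zpow_add])⟩
    · exact ⟨i + -j, Or.inl (by
        rw [mul_assoc, ← mul_assoc b, hc, mul_assoc, hb, mul_one, zpow_add])⟩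
  | inv p _ hp =>
    obtain ⟨i, rfl | rfl⟩ := hp
    · exact ⟨-i, Or.inl (zpow_neg u i).symm⟩
    · refine ⟨i, Or.inr ?_⟩
      rw [mul_inv_rev, inv_eq_of_mul_eq_one_right hb, ← zpow_neg, hc, neg_neg]

theorem conj_eq_inv_self_of_sq {b u : G} (hb : b * b = 1) (h : b * u * b⁻¹ = u⁻¹) (i : ℤ) :
    u ^ i * b * (u ^ i * b) = 1 := by
  rw [mul_assoc, ← mul_assoc b, ← inv_eq_of_mul_eq_one_right hb]
  have : b⁻¹ * u ^ i * b⁻¹ = u ^ (-i) := by
    calc b⁻¹ * u ^ i * b⁻¹ = b * u ^ i * b⁻¹ := by rw [inv_eq_of_mul_eq_one_right hb]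
      _ = u ^ (-i) := by rw [← conj_zpow, h, inv_zpow, zpow_neg]
  rw [this, zpow_neg, mul_inv_cancel]

variable [Finite G]

/-- No non-trivial element of odd order in the centraliser of an involution is inverted by a
second involution. -/
theorem SelfCent.eq_one_of_inverted (h : SelfCent G) {t b w : G} (ht1 : t ≠ 1) (ht : t * t = 1)
    (hb : b * b = 1) (hbt : b ≠ t) (htb : Commute t b) (htw : Commute t w)
    (hw : Odd (orderOf w)) (hinv : b * w * b⁻¹ = w⁻¹) : w = 1 := by
  by_contra hw1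
  set H := closure ({w, b} : Set G) with hH
  have hwH : w ∈ H := subset_closure (Or.inl rfl)
  have hbH : b ∈ H := subset_closure (Or.inr rfl)
  have hsq : ∀ v : G, Odd (orderOf v) → v * v = 1 → v = 1 := by
    intro v hv e
    rw [← sq] at e
    rcases (Nat.dvd_prime Nat.prime_two).1 (orderOf_dvd_of_pow_eq_one e) with e' | e'
    · exact orderOf_eq_one_iff.1 e'
    · rw [e'] at hv; exact absurd hv (by decide)
  have hnc : ¬ IsCyclic ↥H := by
    intro hc
    have hcm : b * w = w * b :=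
      congrArg Subtype.val (IsMulCommutative.is_comm.comm (⟨b, hbH⟩ : H) ⟨w, hwH⟩)
    rw [hcm, mul_inv_cancel_right] at hinv
    exact hw1 (hsq w hw (eq_inv_iff_mul_eq_one.1 hinv))
  have htH : t ∈ H := by
    refine h H hnc ?_
    rw [hH, centralizer_closure]
    rintro y (rfl | rfl)
    exacts [htw.symm.eq, htb.symm.eq]
  obtain ⟨i, rfl | rfl⟩ := closure_inverted hb hinv htH
  · refine ht1 (hsq _ (Odd.of_dvd_nat hw ?_) ht)
    exact orderOf_dvd_of_mem_zpowers (zpow_mem_zpowers w i)
  · have hbw : Commute b w := by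
      have h1 : Commute ((w ^ i)⁻¹ * (w ^ i * b)) w :=
        ((Commute.refl w).zpow_left i).inv_left.mul_left htw
      rwa [inv_mul_cancel_left] at h1
    rw [hbw.eq, mul_inv_cancel_right] at hinv
    exact hw1 (hsq w hw (eq_inv_iff_mul_eq_one.1 hinv))

/-- Two commuting involutions' conjugates under `C(t)` generate 2-groups. -/
theorem SelfCent.isPGroup_pair (h : SelfCent G) {t b c : G} (ht1 : t ≠ 1) (ht : t * t = 1)
    (hb : b * b = 1) (hc : c * c = 1) (hbt : b ≠ t) (htb : Commute t b) (htc : Commute t c) :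
    IsPGroup 2 ↥(closure ({b, c} : Set G)) := by
  haveI : Fact (Nat.Prime 2) := ⟨Nat.prime_two⟩
  set u := b * c with hu
  have hinv : b * u * b⁻¹ = u⁻¹ := by
    rw [hu, mul_inv_rev, inv_eq_of_mul_eq_one_right hb, inv_eq_of_mul_eq_one_right hc,
      ← mul_assoc, hb, one_mul]
  obtain ⟨k, m, hm, hkm⟩ := Nat.exists_eq_two_pow_mul_odd (orderOf_pos u).ne'
  have hord : orderOf (u ^ 2 ^ k) = m := by
    rw [orderOf_pow_of_dvd (by positivity) (hkm ▸ dvd_mul_right _ _), hkm,
      Nat.mul_div_cancel_left _ (by positivity)]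
  have hw1 : u ^ 2 ^ k = 1 := h.eq_one_of_inverted ht1 ht hb hbt htb
    (((htb.mul_right htc)).pow_right _) (hord ▸ hm) (by rw [← conj_pow, hinv, inv_pow])
  intro x
  have hx : (x : G) ∈ closure ({u, b} : Set G) := by
    refine (closure_le _).2 ?_ x.2
    rintro y (rfl | rfl)
    · exact subset_closure (Or.inr rfl)
    · have := mul_mem (subset_closure (Or.inr rfl) : b ∈ closure ({u, b} : Set G))
        (subset_closure (Or.inl rfl) : u ∈ closure ({u, b} : Set G))
      rwa [hu, ← mul_assoc, hb, one_mul] at this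
  obtain ⟨i, e | e⟩ := closure_inverted hb hinv hx
  · refine ⟨k, Subtype.ext ?_⟩
    rw [SubgroupClass.coe_pow, OneMemClass.coe_one, e, ← zpow_natCast, ← zpow_mul, mul_comm,
      zpow_mul, zpow_natCast, hw1, one_zpow]
  · refine ⟨1, Subtype.ext ?_⟩
    rw [SubgroupClass.coe_pow, OneMemClass.coe_one, e, pow_one, sq,
      conj_eq_inv_self_of_sq hb hinv]

/-- The involutions other than `t` in a 2-group with a cyclic half, under an automorphism of odd
prime order: one of them is fixed. -/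
theorem exists_fixed_invol {O : Subgroup G} (hO : IsPGroup 2 O)
    (hhalf : ZCGroup.HasCyclicHalf ↥O) {t b w : G} {r : ℕ} [Fact r.Prime] (hr : r ≠ 2)
    (ht1 : t ≠ 1) (ht : t * t = 1) (hb : b * b = 1) (hb1 : b ≠ 1) (hbt : b ≠ t)
    (htO : t ∈ O) (hbO : b ∈ O) (hcent : ∀ o ∈ O, Commute t o)
    (hwr : w ^ r = 1) (hwt : Commute w t) (hwO : ∀ o ∈ O, w * o * w⁻¹ ∈ O)
    (hC : ∀ v ∈ O, Commute v b → v = 1 ∨ v = t ∨ v = b ∨ v = t * b) :
    ∃ c ∈ O, c * c = 1 ∧ c ≠ 1 ∧ c ≠ t ∧ Commute w c := by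
  classical
  by_cases hab : ∀ v ∈ O, Commute v b
  · refine ⟨b, hbO, hb, hb1, hbt, ?_⟩
    rcases hC _ (hwO b hbO) (hab _ (hwO b hbO)) with e | e | e | e
    · exact absurd (conj_eq_one_iff.1 e) hb1
    · exfalso
      refine hbt ((MulAut.conj w).injective ?_)
      show w * b * w⁻¹ = w * t * w⁻¹
      rw [e, hwt.eq, mul_inv_cancel_right]
    · exact mul_inv_eq_iff_eq_mul.1 e
    · have h2 : Commute (w ^ 2) b := by
        refine mul_inv_eq_iff_eq_mul.1 ?_
        calc w ^ 2 * b * (w ^ 2)⁻¹ = w * (w * b * w⁻¹) * w⁻¹ := by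
              rw [pow_two, mul_inv_rev]; simp only [mul_assoc]
          _ = w * t * b * w⁻¹ := by rw [e, ← mul_assoc]
          _ = t * (w * b * w⁻¹) := by rw [hwt.eq]; group
          _ = b := by rw [e, ← mul_assoc, ht, one_mul]
      obtain ⟨k, hk⟩ := (Fact.out : r.Prime).odd_of_ne_two hr
      have hw : w = (w ^ 2) ^ (k + 1) := by
        rw [← pow_mul, show 2 * (k + 1) = r + 1 by omega, pow_succ, hwr, one_mul]
      rw [hw]; exact h2.pow_left _
  push Not at hab
  obtain ⟨o, hoO, hob⟩ := hab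
  obtain ⟨B, hBc, hB2⟩ := hhalf
  let B' : Subgroup G := B.map O.subtype
  have hB'O : B' ≤ O := map_subtype_le _
  haveI : IsCyclic ↥B' := isCyclic_of_surjective _
    (B.equivMapOfInjective O.subtype O.subtype_injective).surjective
  have hBcomm : ∀ x ∈ B', ∀ y ∈ B', Commute x y := fun x hx y hy =>
    congrArg Subtype.val (IsMulCommutative.is_comm.comm (⟨x, hx⟩ : B') ⟨y, hy⟩)
  have hBmul : ∀ a ∈ O, ∀ c ∈ O, a ∉ B' → c ∉ B' → a * c ∈ B' := fun a ha c hc haB hcB =>
    ⟨⟨a, ha⟩ * ⟨c, hc⟩, hB2 ⟨a, ha⟩ ⟨c, hc⟩ (fun e => haB ⟨_, e, rfl⟩)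
      (fun e => hcB ⟨_, e, rfl⟩), rfl⟩
  have htB : t ∈ B' := by
    by_contra htB
    have hd : ∀ v ∈ O, ∃ x ∈ B', v = x ∨ v = t * x := by
      intro v hv
      by_cases hvB : v ∈ B'
      · exact ⟨v, hvB, Or.inl rfl⟩
      · exact ⟨t * v, hBmul t htO v hv htB hvB, Or.inr (by rw [← mul_assoc, ht, one_mul])⟩
    obtain ⟨x, hx, hox⟩ := hd o hoO
    obtain ⟨y, hy, hby⟩ := hd b hbO
    have hxy := hBcomm x hx y hy
    apply hob
    rcases hox with rfl | rfl <;> rcases hby with rfl | rfl
    · exact hxy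
    · exact ((hcent _ hoO).symm).mul_right hxy
    · exact (hcent _ (hB'O hy)).mul_left hxy
    · exact ((Commute.refl t).mul_left (hcent _ (hB'O hx)).symm).mul_right
        ((hcent _ (hB'O hy)).mul_left hxy)
  have huniq : ∀ c ∈ B', c * c = 1 → c ≠ 1 → c = t := by
    intro c hc hc2 hc1
    by_contra hct
    haveI : Fintype B' := Fintype.ofFinite B'
    have h3 : ({1, ⟨t, htB⟩, ⟨c, hc⟩} : Finset B').card ≤ 2 := by
      refine le_trans (Finset.card_le_card fun x hx => ?_)
        (IsCyclic.card_pow_eq_one_le (α := B') (n := 2) two_pos)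
      simp only [Finset.mem_insert, Finset.mem_singleton] at hx
      simp only [Finset.mem_filter, Finset.mem_univ, true_and, sq]
      rcases hx with rfl | rfl | rfl
      exacts [one_mul 1, Subtype.ext ht, Subtype.ext hc2]
    rw [Finset.card_eq_three.2 ⟨1, ⟨t, htB⟩, ⟨c, hc⟩, fun e => ht1 (congrArg Subtype.val e).symm,
      fun e => hc1 (congrArg Subtype.val e).symm, fun e => hct (congrArg Subtype.val e).symm,
      rfl⟩] at h3
    omega
  have hbB : b ∉ B' := fun h => hbt (huniq b h hb hb1)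
  have hbi : b⁻¹ = b := inv_eq_of_mul_eq_one_right hb
  let X := {c : G // c ∈ O ∧ c * c = 1 ∧ c ≠ 1 ∧ c ≠ t}
  let K : Subgroup G :=
    { carrier := {x | x ∈ B' ∧ b * x * b⁻¹ = x⁻¹}
      one_mem' := ⟨one_mem _, by rw [mul_one, mul_inv_cancel, inv_one]⟩
      mul_mem' := fun {x y} hx hy => ⟨mul_mem hx.1 hy.1, by
        rw [← conj_mul, hx.2, hy.2, ← mul_inv_rev, (hBcomm y hy.1 x hx.1).eq]⟩
      inv_mem' := fun {x} hx => ⟨inv_mem hx.1, by rw [← conj_inv, hx.2]⟩ }
  have hKO : K ≤ O := fun x hx => hB'O hx.1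
  have hcard : Nat.card X = Nat.card K := by
    refine Nat.card_congr ⟨fun c => ⟨c.1 * b, ?_, ?_⟩, fun x => ⟨x.1 * b, ?_⟩, ?_, ?_⟩
    · exact hBmul _ c.2.1 b hbO (fun h => c.2.2.2.2 (huniq _ h c.2.2.1 c.2.2.2.1)) hbB
    · rw [hbi, mul_inv_rev, hbi, inv_eq_of_mul_eq_one_right c.2.2.1]
      simp only [mul_assoc, hb, mul_one]
    · have hnB : (x : G) * b ∉ B' := fun h => hbB (by
        have := mul_mem (inv_mem x.2.1) h
        rwa [inv_mul_cancel_left] at this)
      refine ⟨mul_mem (hKO x.2) hbO, ?_, fun e => hnB (e ▸ one_mem _), fun e => hnB (e ▸ htB)⟩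
      have := x.2.2
      rw [hbi] at this
      rw [mul_assoc, ← mul_assoc b, this, mul_inv_cancel]
    · intro c; exact Subtype.ext (by simp only [mul_assoc, hb, mul_one])
    · intro x; exact Subtype.ext (by simp only [mul_assoc, hb, mul_one])
  obtain ⟨i, hi⟩ := IsPGroup.iff_card.1 (hO.to_le hKO)
  have hwX : ∀ v : G, Commute v t → (∀ o ∈ O, v * o * v⁻¹ ∈ O) → ∀ c : G,
      c ∈ O ∧ c * c = 1 ∧ c ≠ 1 ∧ c ≠ t →
      v * c * v⁻¹ ∈ O ∧ v * c * v⁻¹ * (v * c * v⁻¹) = 1 ∧ v * c * v⁻¹ ≠ 1 ∧ v * c * v⁻¹ ≠ t := by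
    rintro v hvt hvO c ⟨hcO, hc2, hc1, hct⟩
    refine ⟨hvO c hcO, by rw [conj_mul, hc2, mul_one, mul_inv_cancel],
      fun e => hc1 (conj_eq_one_iff.1 e), fun e => hct ((MulAut.conj v).injective ?_)⟩
    show v * c * v⁻¹ = v * t * v⁻¹
    rw [e, hvt.eq, mul_inv_cancel_right]
  let f : X → X := fun c => ⟨w * c.1 * w⁻¹, hwX w hwt hwO c.1 c.2⟩
  have hfi : Function.Injective f := fun c d e =>
    Subtype.ext ((MulAut.conj w).injective (congrArg Subtype.val e))
  let σ : Equiv.Perm X := Equiv.ofBijective f (Finite.injective_iff_bijective.1 hfi)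
  have hσ : ∀ (j : ℕ) (c : X), ((σ ^ j) c).1 = w ^ j * c.1 * (w ^ j)⁻¹ := by
    intro j
    induction j with
    | zero => intro c; simp
    | succ j ih =>
      intro c
      rw [pow_succ', Equiv.Perm.mul_apply]
      show w * ((σ ^ j) c).1 * w⁻¹ = _
      rw [ih, pow_succ']; group
  haveI : Fintype X := Fintype.ofFinite X
  have hnd : ¬ r ∣ Fintype.card X := by
    rw [← Nat.card_eq_fintype_card, hcard, hi]
    exact fun h => hr ((Nat.prime_dvd_prime_iff_eq Fact.out Nat.prime_two).1
      ((Fact.out : r.Prime).dvd_of_dvd_pow h))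
  obtain ⟨c, hc⟩ := Equiv.Perm.exists_fixed_point_of_prime (p := r) (n := 1) hnd (σ := σ)
    (Equiv.ext fun c => Subtype.ext (by rw [pow_one, hσ, hwr]; simp))
  exact ⟨c.1, c.2.1, c.2.2.1, c.2.2.2.1, c.2.2.2.2,
    mul_inv_eq_iff_eq_mul.1 (congrArg Subtype.val hc)⟩

/-- An involution of a four-group and the four elements commuting with both. -/
theorem SelfCent.eq_four (h : SelfCent G) {t b v : G} (ht1 : t ≠ 1) (ht : t * t = 1)
    (hb : b * b = 1) (hb1 : b ≠ 1) (hbt : b ≠ t) (htb : Commute t b) (hvt : Commute v t)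
    (hvb : Commute v b) : v = 1 ∨ v = t ∨ v = b ∨ v = t * b := by
  have hV := Classification.isKleinFour_fourSpan ht hb htb.eq ht1 hb1 hbt.symm
  refine Classification.mem_fourSpan.1 (h.four hV ?_)
  rw [mem_centralizer_iff]
  intro y hy
  rcases Classification.mem_fourSpan.1 hy with rfl | rfl | rfl | rfl
  · rw [one_mul, mul_one]
  · exact hvt.symm.eq
  · exact hvb.symm.eq
  · exact (hvt.mul_right hvb).symm.eq

/-- The centraliser of an involution of a four-group is a 2-group. -/
theorem SelfCent.isPGroup_centralizer (h : SelfCent G) {V : Subgroup G} (hV : IsKleinFour V)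
    {t : G} (htV : t ∈ V) (ht1 : t ≠ 1) : IsPGroup 2 ↥(centralizer ({t} : Set G)) := by
  haveI : Fact (Nat.Prime 2) := ⟨Nat.prime_two⟩
  set C := centralizer ({t} : Set G) with hC
  have ht : t * t = 1 := Classification.sq_eq_one_of_isKleinFour hV htV
  obtain ⟨b, hbV, hb1, hbt⟩ := Classification.exists_mem_ne_of_isKleinFour hV t
  have hb : b * b = 1 := Classification.sq_eq_one_of_isKleinFour hV hbV
  have htb : Commute t b := Classification.comm_of_isKleinFour hV htV hbV
  have hmem : ∀ v ∈ C, Commute t v := fun v hv => (mem_centralizer_singleton_iff.1 hv).symm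
  have hbC : b ∈ C := mem_centralizer_singleton_iff.2 htb.symm.eq
  have htC : t ∈ C := mem_centralizer_singleton_iff.2 rfl
  set b' : C := ⟨b, hbC⟩ with hb'
  have hbo : orderOf b' = 2 := by
    rw [← Subgroup.orderOf_coe]
    exact orderOf_eq_prime (by rw [sq]; exact hb) hb1
  obtain ⟨N, hNn, hNp, hbN⟩ := Cfsg.Agent.S0199.result (p := 2) (zpowers b')
    (IsPGroup.of_card (n := 1) (by rw [Nat.card_zpowers, hbo, pow_one])) (fun g => by
      set c : G := (g : G) * b * (g : G)⁻¹ with hc
      have h2 := h.isPGroup_pair ht1 ht hb (c := c) (by rw [hc, conj_mul, hb, mul_one, mul_inv_cancel])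
        hbt htb (hmem c (mul_mem (mul_mem g.2 hbC) (inv_mem g.2)))
      refine IsPGroup.to_le (h2.comap_subtype) ?_
      rw [MonoidHom.map_zpowers]
      refine sup_le (zpowers_le.2 ?_) (zpowers_le.2 ?_)
      · exact subset_closure (Or.inl rfl)
      · exact subset_closure (Or.inr rfl))
  haveI := hNn
  set t' : C := ⟨t, htC⟩ with ht'
  have htn : (zpowers t').Normal := ⟨fun x hx g => by
    obtain ⟨j, rfl⟩ := hx
    have : Commute g t' := Subtype.ext (hmem _ g.2).symm.eq
    rw [(this.zpow_right j).eq, mul_inv_cancel_right]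
    exact zpow_mem_zpowers t' j⟩
  have hto : orderOf t' = 2 := by
    rw [← Subgroup.orderOf_coe]
    exact orderOf_eq_prime (by rw [sq]; exact ht) ht1
  have hN' : IsPGroup 2 ↥(N ⊔ zpowers t' : Subgroup C) :=
    IsPGroup.to_sup_of_normal_left hNp
      (IsPGroup.of_card (n := 1) (by rw [Nat.card_zpowers, hto, pow_one]))
  haveI hN'n : (N ⊔ zpowers t' : Subgroup C).Normal := sup_normal N (zpowers t')
  set O : Subgroup G := (N ⊔ zpowers t').map C.subtype with hO
  have hOp : IsPGroup 2 O := hN'.map _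
  have hOC : O ≤ C := map_subtype_le _
  have hbO : b ∈ O := ⟨b', mem_sup_left (hbN (mem_zpowers b')), rfl⟩
  have htO : t ∈ O := ⟨t', mem_sup_right (mem_zpowers t'), rfl⟩
  have hhalf : ZCGroup.HasCyclicHalf ↥O := by
    set Q := (Classification.fourSpan t b ht hb htb.eq).subgroupOf O with hQ
    have hQO : Classification.fourSpan t b ht hb htb.eq ≤ O := by
      intro x hx
      rcases Classification.mem_fourSpan.1 hx with rfl | rfl | rfl | rfl
      exacts [one_mem _, htO, hbO, mul_mem htO hbO]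
    have hQ4 : Nat.card Q = 4 := by
      rw [Nat.card_congr (subgroupOfEquivOfLe hQO).toEquiv]
      exact (Classification.isKleinFour_fourSpan ht hb htb.eq ht1 hb1 hbt.symm).card_four
    by_cases hne : Q = ⊤
    · refine ⟨zpowers ⟨t, htO⟩, inferInstance, fun a c ha hc => ?_⟩
      have hcases : ∀ v : O, v ∉ zpowers (⟨t, htO⟩ : O) → (v : G) = b ∨ (v : G) = t * b := by
        intro v hv
        have hvQ : v ∈ Q := hne ▸ mem_top v
        rcases (Classification.mem_fourSpan (hu := ht) (hz := hb) (h := htb.eq)).1 hvQ with e | e | e | e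
        · exact absurd ((OneMemClass.coe_eq_one.1 e) ▸ one_mem _) hv
        · exact absurd ((Subtype.ext e : v = ⟨t, htO⟩) ▸ mem_zpowers _) hv
        · exact Or.inl e
        · exact Or.inr e
      have hbi : t * b * b = t := by rw [mul_assoc, hb, mul_one]
      rcases hcases a ha with ea | ea <;> rcases hcases c hc with ec | ec
      · rw [show a * c = 1 from Subtype.ext (by rw [Subgroup.coe_mul, ea, ec, hb]; rfl)]
        exact one_mem _
      · rw [show a * c = ⟨t, htO⟩ from Subtype.ext (by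
          rw [Subgroup.coe_mul, ea, ec, ← mul_assoc, ← htb.eq, hbi])]
        exact mem_zpowers _
      · rw [show a * c = ⟨t, htO⟩ from Subtype.ext (by rw [Subgroup.coe_mul, ea, ec, hbi])]
        exact mem_zpowers _
      · rw [show a * c = 1 from Subtype.ext (by
          rw [Subgroup.coe_mul, ea, ec, Commute.mul_mul_mul_comm htb.symm, ht, hb, one_mul]; rfl)]
        exact one_mem _
    rcases FusionMetacyclic.of_klein_self_centralizing hOp Q hQ4 (fun q hq => by
        refine Subtype.ext ?_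
        rw [SubgroupClass.coe_pow, sq, OneMemClass.coe_one]
        exact Classification.sq_eq_one_of_isKleinFour
          (Classification.isKleinFour_fourSpan ht hb htb.eq ht1 hb1 hbt.symm) hq)
      (fun g hg => by
        have hQt : (⟨t, htO⟩ : O) ∈ Q :=
          (Classification.mem_fourSpan (hu := ht) (hz := hb) (h := htb.eq)).2 (Or.inr (Or.inl rfl))
        have hQb : (⟨b, hbO⟩ : O) ∈ Q :=
          (Classification.mem_fourSpan (hu := ht) (hz := hb) (h := htb.eq)).2
            (Or.inr (Or.inr (Or.inl rfl)))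
        exact (Classification.mem_fourSpan (hu := ht) (hz := hb) (h := htb.eq)).2
          (h.eq_four ht1 ht hb hb1 hbt htb (congrArg Subtype.val (hg _ hQt))
            (congrArg Subtype.val (hg _ hQb))))
      hne with ⟨n, ⟨e⟩⟩ | hq
    · exact ZCGroup.hasCyclicHalf_of_dihedral e
    · exact ZCGroup.hasCyclicHalf_of_quasiDihedral hq
  -- an element of odd prime order would fix one of the involutions of `O`
  by_contra hC2
  obtain ⟨r, hrp, hrd, hr2⟩ : ∃ r, r.Prime ∧ r ∣ Nat.card C ∧ r ≠ 2 := by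
    by_contra hne
    push Not at hne
    refine hC2 (IsPGroup.of_card (n := (Nat.card C).primeFactorsList.length) ?_)
    exact Nat.eq_prime_pow_of_unique_prime_dvd Nat.card_pos.ne' fun {q} hq hqd => hne q hq hqd
  haveI : Fact r.Prime := ⟨hrp⟩
  obtain ⟨w, hw⟩ := exists_prime_orderOf_dvd_card' r hrd
  have hwG : orderOf (w : G) = r := by rw [Subgroup.orderOf_coe]; exact hw
  have hwr : (w : G) ^ r = 1 := hwG ▸ pow_orderOf_eq_one _
  have hwO : ∀ o ∈ O, (w : G) * o * (w : G)⁻¹ ∈ O := by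
    rintro _ ⟨o', ho', rfl⟩
    exact ⟨w * o' * w⁻¹, hN'n.conj_mem o' ho' w, rfl⟩
  have hcent : ∀ o ∈ O, Commute t o := fun o ho => hmem o (hOC ho)
  obtain ⟨c, hcO, hc2, hc1, hct, hwc⟩ := exists_fixed_invol hOp hhalf hr2 ht1 ht hb hb1 hbt htO hbO
    hcent hwr (hmem _ w.2).symm hwO
    (fun v hv hvb => h.eq_four ht1 ht hb hb1 hbt htb (hcent v hv).symm hvb)
  have hw2 : (w : G) * w = 1 := by
    rcases h.eq_four ht1 ht hc2 hc1 hct (hcent c hcO) (hmem _ w.2).symm hwc with e | e | e | e <;>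
      rw [e]
    · rw [one_mul]
    · exact ht
    · exact hc2
    · rw [(hcent c hcO).symm.mul_mul_mul_comm, ht, hc2, one_mul]
  rw [← sq] at hw2
  have := orderOf_dvd_of_pow_eq_one hw2
  rw [hwG, Nat.prime_dvd_prime_iff_eq hrp Nat.prime_two] at this
  exact hr2 this

end CfsgLib.SelfCentNonCyclic
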